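import Cfsg.Agent.HN.PC
import Cfsg.Agent.Schreier.ONTr
import Cfsg.Agent.ONType.Fus
set_option linter.all false

-- part: UGT/C/PcTab
section
/-!
# Multiplication tables of polycyclic 2-groups (helper88)

`s 0, …, s (n-1)` with `s k * s k` a word in the `s j`, `j < k`, and `s k * s i = word * s k`. `ev s n x` is the product
(ascending) of the `s i` over the bits `i` of `x`. A table `R` with the rules `UpRule`, `SqRule`, `CjRule` gives the
right multiplications: `ev x * s i = ev (R x i)`.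
-/

set_option autoImplicit false

namespace Cfsg.Agent.UGT.C.PcTab

open Cfsg.Agent.HN.PC

variable {G : Type*} [Group G]

/-- the product of the `s i`, `i < k` a bit of `x`, ascending -/
def ev (s : ℕ → G) (x : ℕ) : ℕ → G
  | 0 => 1
  | k + 1 => ev s x k * (bif x.testBit k then s k else 1)

/-- iterated right multiplication -/
def run (R : ℕ → ℕ → ℕ) (x : ℕ) : List ℕ → ℕ
  | [] => x
  | i :: L => run R (R x i) L

/-- multiplication of codes -/
def mulk (R : ℕ → ℕ → ℕ) (x y : ℕ) : ℕ → ℕ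
  | 0 => x
  | k + 1 => bif y.testBit k then R (mulk R x y k) k else mulk R x y k

/-- the relations -/
structure Rels (s : ℕ → G) (n : ℕ) (sq : ℕ → List ℕ) (cj : ℕ → ℕ → List ℕ) : Prop where
  rsq : ∀ k < n, s k * s k = ((sq k).map s).prod
  rcj : ∀ k < n, ∀ i < k, s k * s i = ((cj k i).map s).prod * s k
  sq_lt : ∀ k < n, ∀ j ∈ sq k, j < k
  cj_lt : ∀ k < n, ∀ i < k, ∀ j ∈ cj k i, j < k

/-- the rules of the table -/
structure Rules (R : ℕ → ℕ → ℕ) (n : ℕ) (sq : ℕ → List ℕ) (cj : ℕ → ℕ → List ℕ) : Prop where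
  up : ∀ k < n, ∀ x < 2 ^ k, R x k = x + 2 ^ k
  tsq : ∀ k < n, ∀ x < 2 ^ k, R (x + 2 ^ k) k = run R x (sq k)
  tcj : ∀ k < n, ∀ x < 2 ^ k, ∀ i < k, R (x + 2 ^ k) i = run R x (cj k i) + 2 ^ k

theorem testBit_top {k x : ℕ} (h : x < 2 ^ k) : (x + 2 ^ k).testBit k = true := by
  rw [add_comm, Nat.testBit_two_pow_add_eq, Nat.testBit_lt_two_pow h]; rfl

theorem testBit_low {k x j : ℕ} (hj : j < k) : (x + 2 ^ k).testBit j = x.testBit j := by
  rw [add_comm]
  exact Nat.testBit_two_pow_add_gt hj x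

theorem ev_low (s : ℕ → G) (x k : ℕ) : ∀ j ≤ k, ev s (x + 2 ^ k) j = ev s x j
  | 0, _ => rfl
  | j + 1, h => by
    show ev s (x + 2 ^ k) j * _ = ev s x j * _
    rw [ev_low s x k j (by omega), testBit_low (by omega)]

theorem ev_succ_low (s : ℕ → G) {x k : ℕ} (h : x < 2 ^ k) : ev s x (k + 1) = ev s x k := by
  show ev s x k * _ = _
  rw [Nat.testBit_lt_two_pow h]
  exact mul_one _

theorem ev_succ_top (s : ℕ → G) {x k : ℕ} (h : x < 2 ^ k) : ev s (x + 2 ^ k) (k + 1) = ev s x k * s k := by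
  show ev s (x + 2 ^ k) k * _ = _
  rw [testBit_top h, ev_low s x k k le_rfl]
  rfl

/-- codes below `2^k` stay the same in larger groups -/
theorem ev_le (s : ℕ → G) {x k : ℕ} (h : x < 2 ^ k) : ∀ n, k ≤ n → ev s x n = ev s x k := by
  intro n hn
  induction n, hn using Nat.le_induction with
  | base => rfl
  | succ m hm ih => rw [ev_succ_low s (h.trans_le (Nat.pow_le_pow_right (by norm_num) hm)), ih]

theorem ev_mem (s : ℕ → G) (x : ℕ) : ∀ k, ev s x k ∈ Pc s k
  | 0 => (Pc s 0).one_mem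
  | k + 1 => by
    refine (Pc s (k + 1)).mul_mem (Pc_mono (Nat.le_succ k) (ev_mem s x k)) ?_
    cases x.testBit k
    · exact (Pc s (k + 1)).one_mem
    · exact mem_Pc (Nat.lt_succ_self k)

theorem run_spec {R : ℕ → ℕ → ℕ} {s : ℕ → G} {k : ℕ}
    (ih : ∀ x < 2 ^ k, ∀ i < k, R x i < 2 ^ k ∧ ev s x k * s i = ev s (R x i) k) (L : List ℕ)
    (hL : ∀ j ∈ L, j < k) : ∀ x < 2 ^ k, run R x L < 2 ^ k ∧ ev s x k * (L.map s).prod = ev s (run R x L) k := by
  induction L with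
  | nil => intro x hx; exact ⟨hx, by simp [run]⟩
  | cons i L ihL =>
    intro x hx
    obtain ⟨h1, h2⟩ := ih x hx i (hL i (by simp))
    obtain ⟨h3, h4⟩ := ihL (fun j hj => hL j (by simp [hj])) _ h1
    refine ⟨h3, ?_⟩
    rw [List.map_cons, List.prod_cons, ← mul_assoc, h2, h4]
    rfl

/-- **The table gives the right multiplications.** -/
theorem ev_R {R : ℕ → ℕ → ℕ} {s : ℕ → G} {n : ℕ} {sq : ℕ → List ℕ} {cj : ℕ → ℕ → List ℕ} (H : Rels s n sq cj)
    (T : Rules R n sq cj) :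
    ∀ k ≤ n, ∀ x < 2 ^ k, ∀ i < k, R x i < 2 ^ k ∧ ev s x k * s i = ev s (R x i) k := by
  intro k
  induction k with
  | zero => intro _ x _ i hi; omega
  | succ k ih =>
    intro hk x hx i hi
    have ih := ih (by omega)
    have hp : 2 ^ (k + 1) = 2 ^ k + 2 ^ k := by rw [pow_succ]; ring
    have hp0 : 0 < 2 ^ k := by positivity
    rcases Nat.lt_or_ge x (2 ^ k) with h1 | h1
    · rcases Nat.lt_or_ge i k with h2 | h2
      · obtain ⟨h3, h4⟩ := ih x h1 i h2
        exact ⟨by omega, by rw [ev_succ_low s h1, ev_succ_low s h3, h4]⟩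
      · have : i = k := by omega
        subst this
        rw [T.up i hk x h1]
        exact ⟨by omega, by rw [ev_succ_low s h1, ev_succ_top s h1]⟩
    · obtain ⟨y, rfl⟩ : ∃ y, x = y + 2 ^ k := ⟨x - 2 ^ k, by omega⟩
      have hy : y < 2 ^ k := by omega
      rcases Nat.lt_or_ge i k with h2 | h2
      · obtain ⟨h3, h4⟩ := run_spec ih (cj k i) (H.cj_lt k hk i h2) y hy
        rw [T.tcj k hk y hy i h2]
        refine ⟨by omega, ?_⟩
        rw [ev_succ_top s hy, ev_succ_top s h3, mul_assoc, H.rcj k hk i h2, ← mul_assoc, h4]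
      · have : i = k := by omega
        subst this
        obtain ⟨h3, h4⟩ := run_spec ih (sq i) (H.sq_lt i hk) y hy
        rw [T.tsq i hk y hy]
        refine ⟨by omega, ?_⟩
        rw [ev_succ_top s hy, ev_succ_low s h3, mul_assoc, H.rsq i hk, h4]

section

variable {R : ℕ → ℕ → ℕ} {s : ℕ → G} {n : ℕ} {sq : ℕ → List ℕ} {cj : ℕ → ℕ → List ℕ}

theorem ev_mul (H : Rels s n sq cj) (T : Rules R n sq cj) {x : ℕ} (hx : x < 2 ^ n) (y : ℕ) :
    ∀ k ≤ n, mulk R x y k < 2 ^ n ∧ ev s x n * ev s y k = ev s (mulk R x y k) n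
  | 0, _ => ⟨hx, mul_one _⟩
  | k + 1, hk => by
    obtain ⟨h1, h2⟩ := ev_mul H T hx y k (by omega)
    obtain ⟨h3, h4⟩ := ev_R H T n le_rfl _ h1 k (by omega)
    show (bif y.testBit k then R (mulk R x y k) k else mulk R x y k) < 2 ^ n ∧
      ev s x n * (ev s y k * (bif y.testBit k then s k else 1)) =
        ev s (bif y.testBit k then R (mulk R x y k) k else mulk R x y k) n
    cases y.testBit k
    · exact ⟨h1, by rw [cond_false, cond_false, mul_one, h2]⟩
    · exact ⟨h3, by rw [cond_true, cond_true, ← mul_assoc, h2, h4]⟩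

theorem mul_eq (H : Rels s n sq cj) (T : Rules R n sq cj) {x : ℕ} (hx : x < 2 ^ n) (y : ℕ) :
    ev s x n * ev s y n = ev s (mulk R x y n) n := (ev_mul H T hx y n le_rfl).2

theorem mulk_lt (H : Rels s n sq cj) (T : Rules R n sq cj) {x : ℕ} (hx : x < 2 ^ n) (y : ℕ) :
    mulk R x y n < 2 ^ n := (ev_mul H T hx y n le_rfl).1

theorem prod_mem {B : Subgroup G} {L : List ℕ} (h : ∀ i ∈ L, s i ∈ B) : (L.map s).prod ∈ B := by
  apply Subgroup.list_prod_mem
  intro x hx
  obtain ⟨i, hi, rfl⟩ := List.mem_map.1 hx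
  exact h i hi

theorem Rels.step (H : Rels s n sq cj) {k : ℕ} (hk : k < n) : Step s k := by
  refine ⟨?_, fun i hi => ?_⟩
  · rw [H.rsq k hk]
    exact prod_mem fun j hj => mem_Pc (H.sq_lt k hk j hj)
  · rw [H.rcj k hk i hi, mul_inv_cancel_right]
    exact prod_mem fun j hj => mem_Pc (H.cj_lt k hk i hi j hj)

/-- every element has a code -/
theorem exists_code (H : Rels s n sq cj) : ∀ k ≤ n, ∀ g ∈ Pc s k, ∃ x < 2 ^ k, g = ev s x k
  | 0, _, g, hg => by
    rw [Pc_zero, Subgroup.mem_bot] at hg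
    exact ⟨0, by norm_num, hg⟩
  | k + 1, hk, g, hg => by
    have hp : 2 ^ (k + 1) = 2 ^ k + 2 ^ k := by rw [pow_succ]; ring
    rcases (H.step (k := k) (by omega)).mem hg with h | h
    · obtain ⟨x, hx, rfl⟩ := exists_code H k (by omega) g h
      exact ⟨x, by omega, (ev_succ_low s hx).symm⟩
    · obtain ⟨x, hx, h1⟩ := exists_code H k (by omega) _ h
      refine ⟨x + 2 ^ k, by omega, ?_⟩
      rw [ev_succ_top s hx, ← h1, inv_mul_cancel_right]

/-- codes are unique if the order is right -/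
theorem code_inj (H : Rels s n sq cj) {k : ℕ} (hk : k ≤ n) (hc : Nat.card (Pc s k) = 2 ^ k) {x y : ℕ}
    (hx : x < 2 ^ k) (hy : y < 2 ^ k) (h : ev s x k = ev s y k) : x = y := by
  classical
  let φ : Fin (2 ^ k) → Pc s k := fun x => ⟨ev s x k, ev_mem s x k⟩
  have hsurj : Function.Surjective φ := by
    rintro ⟨g, hg⟩
    obtain ⟨x, hx, rfl⟩ := exists_code H k hk g hg
    exact ⟨⟨x, hx⟩, rfl⟩
  have hfin : Finite (Pc s k) := Nat.finite_of_card_ne_zero (by rw [hc]; positivity)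
  have := Fintype.ofFinite (Pc s k)
  have hbij : Function.Bijective φ := by
    rw [Fintype.bijective_iff_surjective_and_card]
    refine ⟨hsurj, ?_⟩
    rw [Fintype.card_fin, ← Nat.card_eq_fintype_card, hc]
  have := hbij.1 (a₁ := ⟨x, hx⟩) (a₂ := ⟨y, hy⟩) (Subtype.ext h)
  exact congrArg Fin.val this

/-- the image of `ev` under a homomorphism -/
def hk (R : ℕ → ℕ → ℕ) (n : ℕ) (c : ℕ → ℕ) (x : ℕ) : ℕ → ℕ
  | 0 => 0
  | k + 1 => bif x.testBit k then mulk R (hk R n c x k) (c k) n else hk R n c x k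

theorem ev_zero (s : ℕ → G) : ∀ k, ev s 0 k = 1
  | 0 => rfl
  | k + 1 => by
    show ev s 0 k * (bif (0 : ℕ).testBit k then s k else 1) = 1
    rw [ev_zero s k, Nat.zero_testBit]; exact mul_one _

theorem hk_spec (H : Rels s n sq cj) (T : Rules R n sq cj) {c : ℕ → ℕ} (f : G →* G)
    (hc : ∀ i < n, f (s i) = ev s (c i) n) (x : ℕ) :
    ∀ k ≤ n, hk R n c x k < 2 ^ n ∧ f (ev s x k) = ev s (hk R n c x k) n
  | 0, _ => ⟨by show 0 < 2 ^ n; positivity, by show f 1 = ev s 0 n; rw [map_one, ev_zero]⟩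
  | k + 1, h => by
    obtain ⟨h1, h2⟩ := hk_spec H T f hc x k (by omega)
    show (bif x.testBit k then mulk R (hk R n c x k) (c k) n else hk R n c x k) < 2 ^ n ∧
      f (ev s x k * (bif x.testBit k then s k else 1)) =
        ev s (bif x.testBit k then mulk R (hk R n c x k) (c k) n else hk R n c x k) n
    cases x.testBit k
    · exact ⟨h1, by rw [cond_false, cond_false, mul_one, h2]⟩
    · refine ⟨mulk_lt H T h1 _, ?_⟩
      rw [cond_true, cond_true, map_mul, h2, hc k (by omega), mul_eq H T h1]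

end

end Cfsg.Agent.UGT.C.PcTab
end

-- part: UGT/C/BalONTab
section
/-!
# The table of a Sylow 2-subgroup of the presented O'Nan group, and kernel checks on it (helper88)
-/

set_option autoImplicit false
set_option maxRecDepth 100000
set_option Elab.async false

namespace Cfsg.Agent.UGT.C.BalONTab

open Cfsg.Agent.UGT.C.PcTab Cfsg.Agent.Schreier.ONRel
open Cfsg.Spor (ON)

/-- the table of right multiplications -/
noncomputable def tabN : ℕ := nat_lit 0x7fda739d1f37d3f5fcff3fad19de879febfbfeffdfb6bcf74fc9f6fc7fbf8fcb567fa5e5fbfe7fffd7ddb331d4f17c3fff8fd3eadb99eaf8fe3fefcfedf36ecd75bc1f2fefebf0f8b7e6fafe1f9ff3f7f97bd8729d9f77f3e5f4fb3dac195ec7bffbf3fafddeb63cb76fd9fef87dbe8f4b165fb5edfffc7eff579d9321dcf57e3eff0f93cacb91eefaff3f6f8fcde366c977bd1fafafcbe0f0b3e4fbfe9fdfd3e7f177df319c0f9f97d5ecf73bafb8de0fcbc9ebf6fbddb7ec770be3e7f47bbd8ecbfe3f87f0f37a7dfed75de311c5fb787dfe8f53aaf389e27dfc1eef4fadd37ac571fe9e3f6fabd0e8bde2f8df5f17b3d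7e973dd309c8fdfb7c5e4f339aeb85e4febd9e3f2f9dcb76c372bf3eff079bc8e4bbe1f97f8f7787cfe571dc301cdff7a7cfe0f138ae381e67ffd1e6f0f8dc372c173ff9ebf2f8bc0e0b9e0f9dfdf5793c7e16fd2b7ff2e2f53b5dcef37a97bef9f13abdbeef7dbb48defc38fd6ec77bb8dca4ef3e3c6ebf67bfdd6dd3f77f7e0f43bfd8ed36a9dbafb703a3deecf6db34ddcfd787d2eef6bb0d8a66e3e9c2e9f73b7d96bd0b6ffae6f73a5d4eb35a87b6fdf33bbd3eaf5dab40dafe39fdee875ba8d4a0ed3f3ceeff47afd569d1f67ffe4f63afd0e934a8db2ff723b3d6e8f4da345d8ff797daeaf4ba0d0a26c3f9caedf53a7d167d7f5fe3e871795cce733abdaef174789cbe6f3d9b5dd6f87a5c7e473b98ccae6b3c1d3e37279fcd65d6f57e6eaf079fc8e532ab5aaf3f5381cee4f2d9359d4f93afc3e6f2b90c8ac6a3cbd6e173397c963d5f4febec73785c4e331aada6f576799c3e2f1d8b55d2fa7b5cfe071b88c4aa693d1dbe77078fc561d4f47eeeef278fc0e130aa5a2f7f7391c6e0f0d8351d0fb3bfcbe2f0b80c0a8683dbdee571387c15fc97bf93d56d775bcdf2fa49dec96af69bbdeefd7b27eee4751b7dc6fb78bc9377321a9db6e77fbd5dc87b796d7ec77fb8dd2ea41dacbebb61bedceed7323ece53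5bb3deeeb70b8917632bacd96f377b95bcb7af9bd16f765b4db2da59d6cd68f79b3daedd6b2feae6741bfd86db68b49775331a1df6c76fb559ca7a79ed3ee76fb0d92ca51d2cfe9b71b6d8ecd632be8e734bbbdaecb60b0957433ba4dd6d367b157cc39f82dfe9355acd72ba63cec1efb4babd6ebd5b32e6e037ba6d46bb58ac99f3303bcd3ea75fad55cd79787dde835fa8d52aa69cac36eb43aed4ead5337e4e1773a2d6eab50a89b72309b8d1eb357a953ce38f8adbeb345a4d329a73c6c5edb5ba3d2e9d4b3ae2e236baed069b48a49df1313b4d7e874fa551cf7878fd9ea34fa0d128a79c2c76cb53a6d0e8d433fe0e3763aad2e8b40a09f70319b0d5e9347a14fc1bf9b0c4e57359ccf27a0ffdd8e23299bcee7d3b04ff6cb1797cc67b389c82fff678acb6673f9d4dc0bf1b5c66473f98cd26a07f9da637219ecce6d3300fd6df1d93cee6b309880fef6d8fc967337994bc3be9b8c0e772594cb25a1ff5dce033993cae5d2b0cfb6eb079fc865b289486fdf7782cf6472f9549c2be1bdc26672f90c924a17f1de6173196c8e4d2308f96ff0d9bcae4b209084fcf7d87cd653279147c4fd9a1ce613158cc723a25edd06770b8bc6e3d1b11f768f3d86c463b188c887bf459fc3e271f8d45c5bd1a4cc6031f88c522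a2fe9d2e67038ec4e2d1314f569b3582c6e2b10888afaf4f9bc1e33178943c6fc9a9ca6330584c321a35e5d46571b83c2e1d0b19f36af2d8ec061b08848c79f5597c7e070f8541c7bc1acc86230f80c120a3fe1d6e471386c0e0d031cf16bb258ac2e0b00808ef8f5f93c5e1307813ffb27f51b0ddaf77cbf1fbdb3ea8582ef7abedfcfbee9ed4ec774bcdfaf87cf7cf2a562bade2ff7d3dfa27754b25cafd78bd1ebd33aaad96e77fbcdecf3ea9cd5acd70be5eaf078f5ce2af67b8df6f7793bf926f59b4dfae774bb1dbcb36ac5a2ff72baddcebe69ad6ed77cb8ddae874f3cd2b56abedc2ef7539f82675cb65eaed70b91cbc332aedb6f777b8dcce3e298d7add78ba5cae070f1cc2bf6fbcdd6e77137fe25f40bad9ed76cb71bbf32ea0dd2cd6ab6dbcdbfa96d0aef65b4dbad86cfdcb28776b25a2df6d35ff65745b8d8edd68b51abf92aa25c2c56fb4dacd3ff94d1ee761b65aad068ff4a28d72b05b6d76933fc24f48bedbec764b319be326a4df2dd62b2d9ccbf292d2aff6db0d9ac864f9c92977eb6582cf6531fd6474dbcdaecd60b118be922a65e2d567b0d8cc3f790d3ef769b258ac060fb4829d7ab4596c7612ff3e3f72a155ab75caf17b9d1eb9d0eaf5aaed7cbbcd8edc28154acd7ab85ce6472e341aad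62bf5d2df2e3777a3d4abd58ad16b951abb51aa75facd6cb3c98cdd68b50ae56ab058e4462e944a8d76b7592bf1e2f7aa557aa754ab15b8d16bdd2ebf52aad5cabc58ade2915ca8d5aa854e2452f349aed42af5529f0e277fa7d6aad50a914b8512bf53ab757a8d4ca3c188df69b58aa54aa050e0442f94cacd56a75127f6e1f63ab51e974ca713bb50eb155e8d4aa6d3c9bd986d86a945a4d3a984cec432c155a25229f4d25f7a1766a950e9d48a512bbf0ab3d4e854fa4d2c93dc84d92a141a652a9048eec22cb51a0536974923f4e0f6baf53e8744a311ba506b557e9d42a2d1c8bd182da6b94da0d1a8844e8412d15da65028f4521f5a076ead52e8d40a110baf02b7d6e9547a0d0c83d480db2b149a250a8040eac02db59a451687411fe86ff13964de773c9f0fb417e894b66d3a9ecfc7ba3bec465d359ccfa783cd15f2212f9a4e27f3d1de92f716944ce7d389d0eb4b7a8bca6653f9ccec73a6bcc5255319e4ea7038d3de22b2b984f677391bea6ef1b924fe67349b0db51768d4967d329acdc6babbac664d3d98cda6834d55d231279e4c26f3519eb2e71e904ee6d30990cb5b728fc86753798ccc63aeb8c7245399a4ca6030d7dc23b239c4d6673117ed6df029c49a572c970bb696e81ce64f2a96cbc5bb7b6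c02752494cba582cdb5b2033b92ca25f2d15ec6d7079ec8a5d28950ab616a834f2472f94cac53b3b4c167f20964aa5028d95a2093e90cb6572913ef6cf0a984ba47249309b796685cc65f2292c9c4bbfb2c22652c90c9a4824df592133396c824f2511ee6c70f9acaa4d209108b7162874d2572790c8c43bbb0c366f289248a4020dd582193694c9647210fe0abf3087c5e371c8f07b075e98c3a2d1a8ec7c3b80aecca1b158cc7a381cc0d72670c8a4623f1d0de1eb73585c4e3d188d06b0d5a9a42a251f8cc6c3385accde13118e46a3018c25626d088847637190be2aaf3883c7e27148b05b17569cc1a3d128ac5c2b88aacea0b1d88c5a2814c4d5277048e4422f1509e3ea73d81c6e2d108904b1d529e40a351788c4c238da8cfe03198a44a2010c65427d008c456271107e5a9f218dc1a170c8703b2f4e9046a0f0a86c3c1b94a6c8e330484c3a180ccad32451882c221f0d05e4a97248f40a1d088502b274a92c7e070f84c2c1390a4c9a39008642a1008c8d224f1d80c36170903e7a8f2989c3a07048301b3f469444a1f0282c1c0b9ca2cae230c80c1a0804ced12551086c020f0501e6a872c8b42a0d008100b374296c5e170780c0c0398a0cba29088240a0000ccd025f1584c160701ff9fd38dc713d5f6fd7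f7f8fc9d6eb8de8fa7e3fffa7d4f379c0f77cbfdf9fc3e27dbee17b3e1fcfdfd9ed30d873bc5fcf97d7e8f4996cb99e0ff7c3eff2794d369caf37e3edf1f83c26db6e4793f5f4f9fb9dd28d4753f5e6f57b7d8ec956abadf8f27a3dfea754b359d0ff78bdde9f43a25daee97f3c1ecf5f99cd20d077be5ecf1797c8e49168bb9f0f7783cfe27149349dafb7a3cde1f03824da6ec7d3d5e4f1f79bd18cc7b391d6ed777b8dc8d66bddcaea763bfda6d47339e8e674bbdd9ec3623d9ef573ba1dcedf59ad10c879381dce9757a8d48964bcdc2ef743afd26945329e0e2763add1e83422d96f171bb5d4e9f399d08c47f3b1c6e573798cc8562bfddae27239fca6543319f8ee70b9dc9e43221d8efd77b81cce5f198d00c07d3a1cce171788c48160bedd2e77038fc26141309f0ea7238dc1e03020d86f975b95c4e1ef97d7eff60b55b6dd6f778bcbe7f301a8da6e37fba5d5ebf586d76cb7db9dc2e2f1f8c26b361bcdded96d76fb62345bcd96d768b4ba7d315a0df6c36fb2595cbe58cd36e36db1d82c2e1f0c769375b4d9eb95d6ef764b75a6d56b758acb67b321b8d26a35faa555abd596df68b5da9d42a2d1e8ca6f341acd5e994d66f366365acd169748a4b279335b0d76834fa25158bc59cdb6a34da1d0282c1e0cf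6d355a4d1e793d5eef6ab1196cd677389cae773518aca6633f9a4d56bb5aec664b3d99cc262b1d8d663b219ccde592d56eb68b019cc96572894aa7534182cf6432f924954ba5a6c26632d91c8242a1d0d261b3594c9e391d4ee76eb3186c5637188ca6733719ac26231f8a4552b95bece60b1d89c422291c8de67b018cc5e190d46e36cb218cc16170884a27136192c76030f824150b85b6ca6230d81c020281c0da65b1584c1df8fdbe9f57ad176bd5f6f87cde4f2b96aba5e2ff7a3d6ea755ab65cafd79bc1e37138ac5bae17cbddd8edb69b55ac17cb95d6e874da4d2a962bf5c2ef72396ca6552b25e2ed71b81c36130a859af574b9db8ddae9753af166b55b6d86cd64b2997ab25a2df6a356aa554abe58add69b41a35128a45fac16cb5d98cda69351ae16cb1596c864d24928972b7582cf623168a4542ba5a2cd61b01834120a05dad564b1d78bd9e8f5da9556ad576b85cce472e948aa562bf5a2d66a3572a754abd59ac1633118b8532a15cadd58ad968b5f2855ca9556a854ca452fd40af542af522964a2578a3562ad51a81432110bd512b554a9d389d8e8759ab546a5536984cc6432c958a25229f4a2562a1562af50a9d49a41231108b0572814ca5d188d86835b2a54ca15168844c2412dd50a75028f422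160a0568ab5228d41a01030100b55529544a1cf87df8bc46251369d4f6783cfd5ea352a9a4e27f3a1d7f2f91c964ca7d399c0e3fd7e8f4ba613c9dcd86df0b8442413c994d66834f95ca25229f4c26f32197d2e914924e26d31980c3ed768b49a753499cb85de8b44227126954b6582cf55aa153a924a25f2a157b2d90c9e48a5d29940a3dd6e874fa412c95c984de0b0402612c914964824f158a0532974824f2211792c9049a4a24d2190083cd66834da552491c783dd8ac4c215168d476381ced56a65088a4623f1a0d772b9348744a3d198c063bd5e9b432211c8dc582dd0a84ea051c894562814e954a71008f4422f1209752a93e834622d1188043ad569e412351489c381dc8a4482350685436180ce552a4518824221f0a0573299248f40a1d09840239d4e93472010c85c180dc0a04aa250c814160804e150a5110874020f0201712892e8b4220d01800038d4696452150481bfbfc7e5f329dcf47d3f5f9fc3e2f190ec7b3e1fefafd1e974ce753c1fcf97c7e0f0b8663a1e4fc7dbdbec765b309ccfe793d5e9f43a2d180e47e3c1eef2f91c964c6713e9ecf1787c0e0b062381f0f479bbbdc6e57369fce4753b5d9ec362b1b0fc733a1deeaf51a954de7d381dce9747a0d0a86e3e1c4ec75b9bcc6653349ecee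71395c9e432291a0f476381cee2f118944d6793a9cce170780c0a06a3c1d0e471b7bbc5e4f38198d46d375b9dc2e271c4ce6b361bedaed16934e464341bcd96c760b09873329a4dc6db5bac564b3a988de69355a9d42a251d0c66e341aed2e914924ee60369acd168740a09076309b0d469b3b9c4e473c1b8c46533599cc26231e4de633219ecae512914f46c3019cc96472090887b36984cc65b1b8c46433e9a8ce6131589c422211f0d6663018ec2e110904fe683298cc16070080807e34990c461afb7c3e7c2315cb45d2f579bc1e3e91cac5b2e17ebadd0e9f888552c17cb95c6e070fe452a164bc5dadb6c36782114cbe592d569b41a3c90ca45e2c16eb2d90c9e880512e96cb1586c060f64128170b459abb5c2e742717ca4552b559ac163a93cbc532a15eaad50a9d8985d2815ca9546a050ee4d2e144ac55a9b4c26702516cae5129549a4123892cb4562814ea2d1089c890592a94ca15068040e6492c150a451a7b3c1e6c29918944d275399c0e369488e4b2613e9acd069b8a2442413c994c66030de50229249c4da5b2c16682b1089e4925529940a3495c864e2412e92c9049a8a8402692c914864020d655209309449a3b1c0e642d9388445235198c06329689e432211e8ac502998b24c2011c894462010c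e58269048c45a1b0c06602f1288e412150984023097c96462010e82c100988b8482290c814060000c65d2491084419fafcfe1c148d8743d1f4f97c7e0e8a06e3b1e0fe7abd3e87856341c0fc793c5e1f03e2a1a8e47c3d9daecf618160c87e391d4e9747a0c8b4663e1c0ee72b93c8685c301e8ec71385c1e0362f188f074399badcee14108f864351b4d96c760a8807e331a0de6ab53a858463c180dc69345a1d02e221e8c46c3599acce610120e86e31194c96472088947636180ce62b1388484c381a8cc6130581c026271c8d0643197abcde0c1e09c542d174b95c6e068f44c2b160be5aad368387c25140bc592c561b01e3f120a45c2d95aacd6081c08c5e29154a9546a048e4442e140ae52a9348287421168ac5128541a0163b100b0542993a9cce041a0bc4425134994c66028d45c231209e4aa5328186c2d1009c4924521900e37160844c2591a8cc600180ac4e21114894462008c454261008e42a13080864291288c41205018006331409044218fa7cbe3f05058341d0f4793c5e1f02c2e1b0e07e3a9d2e8f410140c07c391c4e17078090a8643c1d8da6cb63b078483e190d469345a1d038261e0c06e32992c8e41a100e86c31184c160700c0887034198ba5cae370107824150b4592c561b00c3e130a05e2a952a8d4001c0805c29144a15068010e8442c1589a4ca633038682e110944924521901836160804e2291288c40a180a84c21104814060040c850241187a3c9e2f0f81c140d074391c4e170780c0b0603e1a8d268b43a050403c190c46130581c020241c0d85a2c962b0d80c1e0905429144a15068040e0402e1289248a432010682c110844120501800030140983a1c8e270b83c0405034190c46130581c030201e0a85228942a0d0001c0904421104814060040c0581a0c86230982c0e010140904421104814060000e02812088422090280c0100401004010040100401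

/-- the entry `(x, i)` of the table -/
noncomputable def R (x i : ℕ) : ℕ := Nat.land (Nat.shiftRight tabN (Nat.mul 9 (Nat.add (Nat.mul 9 x) i))) 511

theorem up_ok : ∀ k < 9, ∀ x < 2 ^ k, R x k = x + 2 ^ k := by decide +kernel
theorem sq_ok : ∀ k < 9, ∀ x < 2 ^ k, R (x + 2 ^ k) k = run R x (sq k) := by decide +kernel
theorem cj_ok : ∀ k < 9, ∀ x < 2 ^ k, ∀ i < k, R (x + 2 ^ k) i = run R x (cj k i) + 2 ^ k := by decide +kernel

theorem rules : Rules R 9 sq cj := ⟨up_ok, sq_ok, cj_ok⟩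

/-- multiplication of codes -/
noncomputable def mu (x y : ℕ) : ℕ := mulk R x y 9

/-- involutions `x`, with `u` such that `u x u⁻¹ = r` -/
def invL : List (ℕ × ℕ × ℕ) := 
  [(1, 0, 1), (2, 0, 2), (3, 256, 2), (8, 0, 8), (9, 16, 8), (10, 128, 8), (11, 144, 8), (64, 0, 64), (65, 8, 64), 
   (66, 40, 64), (67, 32, 64), (76, 16, 64), (77, 24, 64), (78, 56, 64), (79, 48, 64), (96, 160, 64), 
   (97, 168, 64), (98, 136, 64), (99, 128, 64), (108, 144, 64), (109, 152, 64), (110, 184, 64), (111, 176, 64), 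
   (128, 0, 128), (129, 4, 128), (130, 8, 128), (131, 12, 128), (132, 24, 128), (133, 28, 128), (134, 16, 128), 
   (135, 20, 128), (152, 260, 128), (153, 256, 128), (154, 264, 128), (155, 268, 128), (156, 280, 128), 
   (157, 284, 128), (158, 276, 128), (159, 272, 128), (160, 64, 128), (161, 68, 128), (162, 72, 128), 
   (163, 76, 128), (164, 88, 128), (165, 92, 128), (166, 80, 128), (167, 84, 128), (176, 348, 128), 
   (177, 344, 128), (178, 336, 128), (179, 340, 128), (180, 324, 128), (181, 320, 128), (182, 328, 128), 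
   (183, 332, 128), (256, 0, 256), (257, 2, 256), (260, 18, 256), (261, 16, 256), (266, 50, 256), (267, 48, 256), 
   (270, 34, 256), (271, 32, 256), (272, 160, 256), (273, 162, 256), (276, 176, 256), (277, 178, 256), 
   (280, 144, 256), (281, 146, 256), (284, 130, 256), (285, 128, 256), (320, 0, 320), (321, 2, 320), 
   (324, 50, 320), (325, 48, 320), (328, 16, 320), (329, 18, 320), (332, 34, 320), (333, 32, 320), 
   (368, 128, 320), (369, 130, 320), (372, 176, 320), (373, 178, 320), (378, 144, 320), (379, 146, 320), 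
   (382, 160, 320), (383, 162, 320)]

/-- the representatives of the classes of involutions -/
def reps : List ℕ := [1, 2, 8, 64, 128, 256, 320]

theorem inv_all : ∀ x < 512, mu x x = 0 → x = 0 ∨ (invL.any fun e => Nat.beq e.1 x) = true := by decide +kernel
theorem inv_conj : (invL.all fun e => Nat.beq (mu e.2.1 e.1) (mu e.2.2 e.2.1) && (Nat.blt e.2.1 512 &&
  (Nat.blt e.2.2 512 && reps.any fun r => Nat.beq r e.2.2))) = true := by decide +kernel

theorem center_ok : ∀ z < 512, (∀ i < 9, mu z (2 ^ i) = mu (2 ^ i) z) → z = 0 ∨ z = 1 := by decide +kernel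
theorem comm_ok : ∀ z < 512, mu z z = 0 → (∀ i < 6, mu z (2 ^ i) = mu (2 ^ i) z) → z = 0 ∨ z = 1 ∨ z = 2 ∨ z = 3 := by
  decide +kernel

/-- the codes of the images of the `s i` under the outer automorphism -/
def BG (i : ℕ) : ℕ := [1, 2, 5, 8, 57, 35, 99, 135, 368].getD i 0

/-- the outer automorphism on codes -/
noncomputable def be (x : ℕ) : ℕ := hk R 9 BG x 9

theorem outer_ok : ∀ u < 512, mu u (be u) = 0 → mu u 1 = mu 1 u ∧ mu u 2 = mu 2 u ∧ mu u 8 = mu 8 u := by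
  decide +kernel

end Cfsg.Agent.UGT.C.BalONTab
end

-- part: UGT/C/BalONInv
section
/-!
# The presented O'Nan group: one class of involutions; the normaliser of the Sylow 2-subgroup (helper88)
-/

set_option autoImplicit false
set_option maxRecDepth 100000
set_option Elab.async false

namespace Cfsg.Agent.UGT.C.BalONInv

open Cfsg.Spor (ON)
open Cfsg.Spor.ON (Gen)
open Cfsg.Agent.Lib.PackMat Cfsg.Agent.SporadicB.ON45Data Cfsg.Agent.SporadicB.ON45Word
  Cfsg.Agent.ONType.SecondTuple Cfsg.Agent.HN.PC Cfsg.Agent.Schreier.ONRel Cfsg.Agent.UGT.C.PcTab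
  Cfsg.Agent.UGT.C.BalONTab

theorem rels (hs : IsSimpleGroup ON) : Rels s 9 sq cj :=
  ⟨fun _ hk => s_sq hs hk, fun _ hk _ hi => s_cj hs hk hi, sq_lt, cj_lt⟩

/-- the element with the code `x` -/
noncomputable def E (x : ℕ) : ON := ev s x 9

/-- the Sylow 2-subgroup -/
abbrev T : Subgroup ON := Cfsg.Agent.Schreier.ONTr.T

theorem E_mem (x : ℕ) : E x ∈ T := ev_mem s x 9

theorem exists_E (hs : IsSimpleGroup ON) {g : ON} (hg : g ∈ T) : ∃ x < 512, g = E x :=
  exists_code (rels hs) 9 le_rfl g hg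

theorem E_inj (hs : IsSimpleGroup ON) {x y : ℕ} (hx : x < 512) (hy : y < 512) (h : E x = E y) : x = y :=
  code_inj (rels hs) le_rfl (Cfsg.Agent.Schreier.ONTr.card_T hs) hx hy h

theorem E_mul (hs : IsSimpleGroup ON) {x : ℕ} (hx : x < 512) (y : ℕ) : E x * E y = E (mu x y) :=
  mul_eq (rels hs) rules hx y

theorem mu_lt (hs : IsSimpleGroup ON) {x : ℕ} (hx : x < 512) (y : ℕ) : mu x y < 512 :=
  mulk_lt (rels hs) rules hx y

theorem E_zero : E 0 = 1 := ev_zero s 9

/-- the product of the `s i` over the bits -/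
theorem ev_eq_prod (x : ℕ) : ∀ k, ev s x k = (((List.range k).filter fun i => x.testBit i).map s).prod
  | 0 => rfl
  | k + 1 => by
    show ev s x k * (bif x.testBit k then s k else 1) = _
    rw [List.range_succ, List.filter_append, List.map_append, List.prod_append, ev_eq_prod x k]
    cases h : x.testBit k
    · simp [h]
    · simp [h]

/-- the bits of a code -/
def bl (x : ℕ) : List ℕ := (List.range 9).filter fun i => x.testBit i

theorem E_eq (x : ℕ) : ((cat (bl x)).map on).prod = E x := by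
  rw [prod_cat]; exact (ev_eq_prod x 9).symm

theorem E_pow (i : ℕ) (hi : i < 9) : E (2 ^ i) = s i := by
  have h : bl (2 ^ i) = [i] := by
    revert i; decide
  unfold E
  rw [ev_eq_prod]
  show ((bl (2 ^ i)).map s).prod = _
  rw [h]; simp

/-! ### One class of involutions -/

/-- words conjugating the representatives to `f` -/
def wr : List (ℕ × List Gen) := [
  (2, [.e, .d, .c, .d, .c, .e, .d, .c, .b, .g, .g, .g, .e, .d, .c, .b, .g, .e, .d, .b, .c, .d, .b, .c, .a, .b]),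
  (8, [.e, .d, .c, .d, .e, .g, .g, .g, .e, .g, .d, .c, .d, .e]),
  (64, [.e, .d, .c, .d, .c, .e, .d, .c, .b, .g, .g, .g, .e, .d, .c, .b, .g, .e, .d, .b, .c, .d]),
  (128, [.e, .d, .f, .e]),
  (256, [.e, .d, .c, .g, .g, .g, .e, .d, .f, .e, .c, .d, .b, .c, .a, .b, .g, .g, .g, .e, .d]),
  (320, [.e, .d, .c, .g, .g, .g, .e, .d, .c, .b, .g, .g, .g, .e, .g, .g, .g, .d, .c, .b, .g, .e, .c, .d])]

/-- check of a conjugation -/
noncomputable def okW (e : ℕ × List Gen) : Bool :=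
  checkEq C45 (mats (e.2 ++ cat (bl e.1))) (mats (.f :: e.2)) 0 45

theorem wr_ok : wr.all okW = true := by decide +kernel

theorem conj_rep (hs : IsSimpleGroup ON) {r : ℕ} (hr : r ∈ reps) : ∃ y : ON, y * E r * y⁻¹ = on .f := by
  have key : ∀ e ∈ wr, ((e.2.map on).prod) * E e.1 * ((e.2.map on).prod)⁻¹ = on .f := by
    intro e he
    have h := eq_of_words hs (List.all_eq_true.1 wr_ok e he)
    rw [List.map_append, List.prod_append, E_eq, List.map_cons, List.prod_cons] at h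
    rw [h, mul_inv_cancel_right]
  have h1 : r = 1 ∨ ∃ e ∈ wr, e.1 = r := by
    revert r; decide
  rcases h1 with rfl | ⟨e, he, rfl⟩
  · refine ⟨1, ?_⟩
    have : E 1 = on .f := by
      have := E_pow 0 (by norm_num)
      rw [pow_zero] at this
      rw [this]
      show ((sw 0).map on).prod = _
      simp [sw]
    rw [this]; group
  · exact ⟨_, key e he⟩

theorem E_one : E 1 = on .f := by
  have := E_pow 0 (by norm_num)
  rw [pow_zero] at this
  rw [this]
  show ((sw 0).map on).prod = _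
  simp [sw]

theorem E_two : E 2 = on .a := by
  have := E_pow 1 (by norm_num)
  rw [pow_one] at this
  rw [this]
  show ((sw 1).map on).prod = _
  simp [sw]

/-- an involution of `T` is conjugate to `f` -/
theorem conj_of_mem (hs : IsSimpleGroup ON) {g : ON} (hg : g ∈ T) (h2 : g * g = 1) (h1 : g ≠ 1) :
    ∃ y : ON, y * g * y⁻¹ = on .f := by
  obtain ⟨x, hx, rfl⟩ := exists_E hs hg
  have hx0 : x ≠ 0 := by rintro rfl; exact h1 E_zero
  have h3 : mu x x = 0 := by
    apply E_inj hs (mu_lt hs hx x) (by norm_num)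
    rw [← E_mul hs hx, h2, E_zero]
  obtain ⟨e, he, hex⟩ := List.any_eq_true.1 ((inv_all x hx h3).resolve_left hx0)
  have hex : e.1 = x := Nat.eq_of_beq_eq_true hex
  have hc := List.all_eq_true.1 inv_conj e he
  rw [Bool.and_eq_true, Bool.and_eq_true, Bool.and_eq_true] at hc
  obtain ⟨c1, c2, c3, c4⟩ := hc
  have c1 := Nat.eq_of_beq_eq_true c1
  have c2 : e.2.1 < 512 := Nat.blt_eq.mp c2
  have c3 : e.2.2 < 512 := Nat.blt_eq.mp c3
  obtain ⟨r, hr, hre⟩ := List.any_eq_true.1 c4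
  have hre : r = e.2.2 := Nat.eq_of_beq_eq_true hre
  obtain ⟨y, hy⟩ := conj_rep hs hr
  have h4 : E e.2.1 * E x = E e.2.2 * E e.2.1 := by
    rw [E_mul hs c2, E_mul hs c3, ← hex, c1]
  refine ⟨y * E e.2.1, ?_⟩
  calc y * E e.2.1 * E x * (y * E e.2.1)⁻¹ = y * (E e.2.1 * E x) * (E e.2.1)⁻¹ * y⁻¹ := by group
    _ = y * E e.2.2 * y⁻¹ := by rw [h4]; group
    _ = on .f := by rw [← hre, hy]

/-- **All involutions are conjugate to `f`.** -/
theorem conj_f (hON : Cfsg.IsON ON) {g : ON} (h2 : g * g = 1) (h1 : g ≠ 1) : ∃ y : ON, y * g * y⁻¹ = on .f := by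
  have := Cfsg.Agent.ONType.RepCent.finite_of_isON hON
  obtain ⟨P, hP⟩ := Cfsg.Agent.Schreier.ONTr.exists_sylow hON
  have hz : IsPGroup 2 (Subgroup.zpowers g) := by
    apply IsPGroup.of_card_dvd_pow (n := 1)
    rw [Nat.card_zpowers, pow_one]
    exact orderOf_dvd_of_pow_eq_one (by rw [pow_two]; exact h2)
  obtain ⟨k, -, hk⟩ := Cfsg.Agent.ONType.Fus.exists_conj_into (S := P) (H := ⊤) le_top hz le_top
  have h3 := hk g (Subgroup.mem_zpowers g)
  rw [hP] at h3
  obtain ⟨y, hy⟩ := conj_of_mem hON.1 h3 (by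
    calc k * g * k⁻¹ * (k * g * k⁻¹) = k * (g * g) * k⁻¹ := by group
      _ = 1 := by rw [h2]; group) (by
    intro h
    apply h1
    calc g = k⁻¹ * (k * g * k⁻¹) * k := by group
      _ = 1 := by rw [h]; group)
  exact ⟨y * k, by rw [← hy]; group⟩

/-! ### The normaliser of `T` -/

theorem comm_of_code (hs : IsSimpleGroup ON) {x y : ℕ} (hx : x < 512) (hy : y < 512) (h : E x * E y = E y * E x) :
    mu x y = mu y x := by
  rw [E_mul hs hx, E_mul hs hy] at h
  exact E_inj hs (mu_lt hs hx y) (mu_lt hs hy x) h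

/-- the centre of `T` -/
theorem center_T (hs : IsSimpleGroup ON) {g : ON} (hg : g ∈ T) (h : ∀ t ∈ T, g * t = t * g) : g = 1 ∨ g = on .f := by
  obtain ⟨x, hx, rfl⟩ := exists_E hs hg
  rcases center_ok x hx (fun i hi => comm_of_code hs hx (by
    have : (2 : ℕ) ^ i < 2 ^ 9 := Nat.pow_lt_pow_right (by norm_num) hi
    omega) (h _ (E_mem _))) with rfl | rfl
  · exact Or.inl E_zero
  · exact Or.inr E_one

/-- involutions of `T` centralising `[T, T]` -/
theorem cent_comm (hs : IsSimpleGroup ON) {g : ON} (hg : g ∈ T) (h2 : g * g = 1)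
    (h : ∀ t ∈ Pc s 6, g * t = t * g) : g = 1 ∨ g = on .f ∨ g = on .a ∨ g = on .f * on .a := by
  obtain ⟨x, hx, rfl⟩ := exists_E hs hg
  have h3 : mu x x = 0 := by
    apply E_inj hs (mu_lt hs hx x) (by norm_num)
    rw [← E_mul hs hx, h2, E_zero]
  have h4 : E 3 = on .f * on .a := by
    rw [← E_one, ← E_two, E_mul hs (by norm_num)]
    congr 1
  rcases comm_ok x hx h3 (fun i hi => comm_of_code hs hx (by
    have : (2 : ℕ) ^ i < 2 ^ 9 := Nat.pow_lt_pow_right (by norm_num) (by omega)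
    omega) (h _ (by rw [E_pow i (by omega)]; exact mem_Pc hi))) with rfl | rfl | rfl | rfl
  · exact Or.inl E_zero
  · exact Or.inr (Or.inl E_one)
  · exact Or.inr (Or.inr (Or.inl E_two))
  · exact Or.inr (Or.inr (Or.inr h4))

end Cfsg.Agent.UGT.C.BalONInv
end
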